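import Groth.Prelude.Def_W4c5flasquetoriphsGLat
import Mathlib

/-!
Permutation lattices, coflasque and flasque lattices over a finite group: basic cohomological lemmas.
-/

set_option autoImplicit false
set_option linter.style.haveILetI false

namespace Groth.Misc15.GLatLib

open GLat

variable {G : Type*} [Group G]

theorem rho_mul_apply {M : Type*} [AddCommGroup M] (ρ : Representation ℤ G M) (a b : G) (m : M) :
    ρ (a * b) m = ρ a (ρ b m) := by rw [map_mul]; rfl

theorem rho_one_apply {M : Type*} [AddCommGroup M] (ρ : Representation ℤ G M) (m : M) : ρ 1 m = m := by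
  rw [map_one]; rfl

/-- A permutation module is coflasque. -/
theorem isCoflasque_of_isPermutation [Finite G] {P : Type*} [AddCommGroup P] {σ : Representation ℤ G P}
    (h : IsPermutation σ) : IsCoflasque σ := by
  classical
  obtain ⟨X, b, hb⟩ := h
  choose π hπ using hb
  have hπ1 : ∀ x, π 1 x = x := fun x => b.injective (by rw [← hπ, rho_one_apply])
  have hπm : ∀ g g' x, π (g * g') x = π g (π g' x) := fun g g' x => b.injective (by
    rw [← hπ, ← hπ, rho_mul_apply, hπ g' x])
  have hrepr : ∀ (g : G) (p : P) (x : X), b.repr (σ g p) x = b.repr p (π g⁻¹ x) := by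
    intro g p x
    induction b.mem_span p using Submodule.span_induction with
    | mem y hy =>
      obtain ⟨i, rfl⟩ := hy
      rw [hπ, b.repr_self, b.repr_self, Finsupp.single_apply, Finsupp.single_apply]
      refine if_congr ⟨fun h => ?_, fun h => ?_⟩ rfl rfl
      · rw [← h, ← hπm, inv_mul_cancel, hπ1]
      · rw [h, ← hπm, mul_inv_cancel, hπ1]
    | zero => simp
    | add y z _ _ hy hz => simp [hy, hz]
    | smul c y _ hy => simp [hy]
  intro H f hf
  -- evaluation at the orbit representatives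
  let r : Setoid X :=
    { r := fun x y => ∃ a : H, π (a : G) x = y
      iseqv := ⟨fun x => ⟨1, hπ1 x⟩,
        fun {x y} ⟨a, ha⟩ => ⟨a⁻¹, by rw [← ha, Subgroup.coe_inv, ← hπm, inv_mul_cancel, hπ1]⟩,
        fun {x y z} ⟨a, ha⟩ ⟨c, hc⟩ => ⟨c * a, by rw [Subgroup.coe_mul, hπm, ha, hc]⟩⟩ }
  let rep : X → X := fun x => (Quotient.mk r x).out
  have hrep : ∀ x, ∃ a : H, π (a : G) (rep x) = x := fun x => Quotient.exact (Quotient.out_eq (Quotient.mk r x))
  have hrepinv : ∀ (a : H) x, rep (π (a : G) x) = rep x := fun a x =>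
    congrArg Quotient.out (Quotient.sound (s := r) (⟨a⁻¹, by
      rw [Subgroup.coe_inv, ← hπm, inv_mul_cancel, hπ1]⟩ : ∃ c : H, π (c : G) (π (a : G) x) = x))
  have hcoc : ∀ (a c : H) (x : X), b.repr (f (a * c)) (π (a : G) x) =
      b.repr (f a) (π (a : G) x) + b.repr (f c) x := fun a c x => by
    rw [hf, map_add, Finsupp.add_apply, hrepr, ← hπm, inv_mul_cancel, hπ1]
  -- cocycles vanish on stabilisers
  have hstab : ∀ (c : H) (x : X), π (c : G) x = x → b.repr (f c) x = 0 := by
    intro c x hc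
    have hpow : ∀ n : ℕ, b.repr (f (c ^ (n + 1))) x = (n + 1 : ℕ) * b.repr (f c) x := by
      intro n
      induction n with
      | zero => simp
      | succ n ih =>
        rw [pow_succ' c (n + 1)]
        have := hcoc c (c ^ (n + 1)) x
        rw [hc] at this
        rw [this, ih]
        push_cast
        ring
    have h1 : f 1 = 0 := by
      have := hf 1 1
      rw [one_mul, Subgroup.coe_one, rho_one_apply] at this
      simpa using this
    obtain ⟨n, hn, hcn⟩ := (isOfFinOrder_of_finite c).exists_pow_eq_one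
    obtain ⟨m, rfl⟩ := Nat.exists_eq_succ_of_ne_zero hn.ne'
    have := hpow m
    rw [hcn, h1, map_zero, Finsupp.zero_apply] at this
    rcases mul_eq_zero.1 this.symm with h | h
    · exact absurd h (by push_cast; omega)
    · exact h
  choose a ha using hrep
  haveI := Fintype.ofFinite H
  let s : Finset X := Finset.univ.biUnion fun c : H => (b.repr (f c)).support
  let m' : X →₀ ℤ := Finsupp.onFinset s (fun x => -(b.repr (f (a x)) x)) fun x hx =>
    Finset.mem_biUnion.2 ⟨a x, Finset.mem_univ _, Finsupp.mem_support_iff.2 fun h => hx (by rw [h, neg_zero])⟩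
  refine ⟨b.repr.symm m', fun c => b.repr.injective (Finsupp.ext fun x => ?_)⟩
  rw [map_sub, Finsupp.sub_apply, hrepr, LinearEquiv.apply_symm_apply]
  simp only [m', Finsupp.onFinset_apply]
  -- compare the representatives of `x` and its translate
  set y := π ((c : G))⁻¹ x with hy
  have hcy : π (c : G) y = x := by rw [hy, ← hπm, mul_inv_cancel, hπ1]
  have hr : rep y = rep x := by rw [← hcy, hrepinv]
  have h2 := hcoc c (a y) y
  rw [hcy] at h2
  -- the stabiliser element
  set d : H := (a x)⁻¹ * (c * a y) with hd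
  have hdfix : π (d : G) (rep x) = rep x := by
    rw [hd, Subgroup.coe_mul, Subgroup.coe_mul, Subgroup.coe_inv, hπm, hπm, ← hr, ha y, hcy]
    rw [hr]
    have h5 := congrArg (π ((a x : G))⁻¹) (ha x)
    rw [← hπm, inv_mul_cancel, hπ1] at h5
    exact h5.symm
  have h3 := hcoc (a x) d (rep x)
  rw [ha x, hstab d _ hdfix, add_zero, hd, mul_inv_cancel_left, h2] at h3
  linarith

/-- Kernels of maps surjective on fixed points are coflasque. -/
theorem isCoflasque_ker {P A Q : Type*} [AddCommGroup P] [AddCommGroup A] [AddCommGroup Q]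
    {τ : Representation ℤ G P} {ρ : Representation ℤ G A} {σ : Representation ℤ G Q}
    (hP : IsCoflasque τ) (i : Q →ₗ[ℤ] P) (π : P →ₗ[ℤ] A) (hi : IsEquivariant σ τ i)
    (hπ : IsEquivariant τ ρ π) (hinj : Function.Injective i) (hex : LinearMap.range i = LinearMap.ker π)
    (hsurj : ∀ (H : Subgroup G) (x : A), (∀ h : H, ρ (h : G) x = x) →
      ∃ p : P, π p = x ∧ ∀ h : H, τ (h : G) p = p) : IsCoflasque σ := by
  intro H f hf
  obtain ⟨p, hp⟩ := hP H (fun h => i (f h)) fun a c => by
    show i (f (a * c)) = i (f a) + τ (a : G) (i (f c))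
    rw [hf, map_add, hi]
  obtain ⟨p', hp', hfix⟩ := hsurj H (π p) fun h => by
    rw [← hπ, ← sub_eq_zero, ← map_sub, ← hp h]
    exact (hex ▸ LinearMap.mem_range_self i (f h) : i (f h) ∈ LinearMap.ker π)
  obtain ⟨q, hq⟩ : p - p' ∈ LinearMap.range i := by
    rw [hex, LinearMap.mem_ker, map_sub, hp', sub_self]
  refine ⟨q, fun h => hinj ?_⟩
  rw [map_sub, hi, hq, map_sub, hfix h, hp h]
  abel

/-- Extensions of coflasque modules are coflasque. -/
theorem isCoflasque_extension {P A Q : Type*} [AddCommGroup P] [AddCommGroup A] [AddCommGroup Q]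
    {τ : Representation ℤ G P} {ρ : Representation ℤ G A} {σ : Representation ℤ G Q}
    (hQ : IsCoflasque σ) (hA : IsCoflasque ρ) (i : Q →ₗ[ℤ] P) (π : P →ₗ[ℤ] A) (hi : IsEquivariant σ τ i)
    (hπ : IsEquivariant τ ρ π) (hinj : Function.Injective i) (hs : Function.Surjective π)
    (hex : LinearMap.range i = LinearMap.ker π) : IsCoflasque τ := by
  intro H f hf
  obtain ⟨x, hx⟩ := hA H (fun h => π (f h)) fun a c => by
    show π (f (a * c)) = π (f a) + ρ (a : G) (π (f c))
    rw [hf, map_add, hπ]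
  obtain ⟨p, rfl⟩ := hs x
  have hker : ∀ h : H, ∃ q, i q = f h - (τ (h : G) p - p) := fun h => by
    rw [← LinearMap.mem_range, hex, LinearMap.mem_ker, map_sub, map_sub, hπ, hx h, sub_self]
  choose g hg using hker
  obtain ⟨q, hq⟩ := hQ H g fun a c => hinj (by
    rw [map_add, hi, hg, hg, hg, hf, map_sub, map_sub, Subgroup.coe_mul, rho_mul_apply]
    abel)
  refine ⟨p + i q, fun h => ?_⟩
  have h1 : i (g h) = τ (h : G) (i q) - i q := by rw [hq h, map_sub, hi]
  rw [hg] at h1
  rw [map_add]
  linear_combination (norm := abel) h1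

variable [Finite G]

/-- Extensions of flasque modules are flasque. -/
theorem isFlasque_extension {P A Q : Type*} [AddCommGroup P] [AddCommGroup A] [AddCommGroup Q]
    {τ : Representation ℤ G P} {ρ : Representation ℤ G A} {σ : Representation ℤ G Q}
    (hQ : IsFlasque σ) (hA : IsFlasque ρ) (i : Q →ₗ[ℤ] P) (π : P →ₗ[ℤ] A) (hi : IsEquivariant σ τ i)
    (hπ : IsEquivariant τ ρ π) (hinj : Function.Injective i) (hs : Function.Surjective π)
    (hex : LinearMap.range i = LinearMap.ker π) : IsFlasque τ := by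
  intro H m hm
  have hπ' : ∀ g m, π (τ g m) = ρ g (π m) := hπ
  have hi' : ∀ g m, i (σ g m) = τ g (i m) := hi
  haveI := Fintype.ofFinite H
  rw [finsum_eq_sum_of_fintype] at hm
  set S := Submodule.span ℤ {x : P | ∃ (h : H) (y : P), x = τ (h : G) y - y} with hS
  have hA' := hA H (π m) (by
    rw [finsum_eq_sum_of_fintype]
    simp only [← hπ']
    rw [← map_sum, hm, map_zero])
  have hlift : ∃ s ∈ S, π s = π m := by
    have hle : Submodule.span ℤ {x : A | ∃ (h : H) (y : A), x = ρ (h : G) y - y} ≤ S.map π := by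
      refine Submodule.span_le.2 ?_
      rintro _ ⟨h, y, rfl⟩
      obtain ⟨y', rfl⟩ := hs y
      exact ⟨τ (h : G) y' - y', Submodule.subset_span ⟨h, y', rfl⟩, by rw [map_sub, hπ]⟩
    exact hle hA'
  obtain ⟨s, hsS, hsπ⟩ := hlift
  obtain ⟨q, hq⟩ : m - s ∈ LinearMap.range i := by
    rw [hex, LinearMap.mem_ker, map_sub, hsπ, sub_self]
  have hN : ∀ y ∈ S, ∑ h : H, τ (h : G) y = 0 := by
    intro y hy
    induction hy using Submodule.span_induction with
    | mem y hy =>
      obtain ⟨c, z, rfl⟩ := hy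
      simp only [map_sub, Finset.sum_sub_distrib, ← rho_mul_apply]
      rw [sub_eq_zero]
      exact Fintype.sum_equiv (Equiv.mulRight c) _ _ fun h => rfl
    | zero => simp
    | add y z _ _ hy hz => simp [Finset.sum_add_distrib, hy, hz]
    | smul c y _ hy => simp [← Finset.smul_sum, hy]
  have hq' := hQ H q (by
    rw [finsum_eq_sum_of_fintype]
    refine hinj ?_
    rw [map_sum, map_zero]
    simp only [hi', hq, map_sub, Finset.sum_sub_distrib, hm, hN s hsS, sub_zero])
  have hle : Submodule.span ℤ {x : Q | ∃ (h : H) (y : Q), x = σ (h : G) y - y} ≤ S.comap i := by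
    refine Submodule.span_le.2 ?_
    rintro _ ⟨h, y, rfl⟩
    exact Submodule.subset_span ⟨h, i y, by rw [map_sub, hi]⟩
  have := S.add_mem (hle hq') hsS
  rwa [hq, sub_add_cancel] at this

omit [Finite G] in
/-- The dual representation. -/
def dual {M : Type*} [AddCommGroup M] (ρ : Representation ℤ G M) :
    Representation ℤ G (M →ₗ[ℤ] ℤ) where
  toFun g := LinearMap.lcomp ℤ ℤ (ρ g⁻¹)
  map_one' := by ext φ m; simp [rho_one_apply]
  map_mul' g g' := by ext φ m; simp [rho_mul_apply]

omit [Finite G] in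
theorem dual_apply {M : Type*} [AddCommGroup M] (ρ : Representation ℤ G M) (g : G) (φ : M →ₗ[ℤ] ℤ) (m : M) :
    dual ρ g φ m = φ (ρ g⁻¹ m) := rfl

omit [Finite G] in
theorem isPermutation_dual {P : Type*} [AddCommGroup P] [Module.Finite ℤ P] {σ : Representation ℤ G P}
    (h : IsPermutation σ) : IsPermutation (dual σ) := by
  classical
  obtain ⟨X, b, hb⟩ := h
  haveI : Finite X := Module.Finite.finite_basis b
  refine ⟨X, b.dualBasis, fun g i => ?_⟩
  obtain ⟨j, hj⟩ := hb g i
  refine ⟨j, b.ext fun l => ?_⟩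
  obtain ⟨l', hl'⟩ := hb g⁻¹ l
  rw [dual_apply, hl', Module.Basis.dualBasis_apply_self, Module.Basis.dualBasis_apply_self]
  refine if_congr ⟨fun h => ?_, fun h => ?_⟩ rfl rfl
  · apply b.injective
    rw [← hj, ← h, ← hl', ← rho_mul_apply, mul_inv_cancel, rho_one_apply]
  · apply b.injective
    rw [← hl', h, ← hj, ← rho_mul_apply, inv_mul_cancel, rho_one_apply]

/-- The dual of a coflasque lattice is flasque. -/
theorem isFlasque_dual {Q : Type*} [AddCommGroup Q] [Module.Finite ℤ Q] [Module.Free ℤ Q]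
    {σ : Representation ℤ G Q} (h : IsCoflasque σ) : IsFlasque (dual σ) := by
  intro H m hm
  classical
  haveI := Fintype.ofFinite H
  rw [finsum_eq_sum_of_fintype] at hm
  let δ : Q →ₗ[ℤ] H → Q := LinearMap.pi fun c => σ (c : G) - LinearMap.id
  have hδ : ∀ q c, δ q c = σ (c : G) q - q := fun q c => rfl
  haveI : Module.IsTorsionFree ℤ ((H → Q) ⧸ LinearMap.range δ) := by
    refine Module.IsTorsionFree.of_smul_eq_zero fun n x hnx => ?_
    obtain ⟨f, rfl⟩ := Submodule.Quotient.mk_surjective _ x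
    by_cases hn : n = 0
    · exact Or.inl hn
    refine Or.inr ((Submodule.Quotient.mk_eq_zero _).2 ?_)
    rw [← Submodule.Quotient.mk_smul, Submodule.Quotient.mk_eq_zero] at hnx
    obtain ⟨q, hq⟩ := hnx
    have hqc : ∀ c : H, σ (c : G) q - q = n • f c := fun c => by rw [← hδ, hq]; rfl
    obtain ⟨q', hq'⟩ := h H f fun a c => by
      refine smul_right_injective Q hn ?_
      show n • f (a * c) = n • (f a + σ (a : G) (f c))
      rw [smul_add, ← map_smul, ← hqc, ← hqc, ← hqc, Subgroup.coe_mul, rho_mul_apply, map_sub]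
      abel
    exact ⟨q', funext fun c => by rw [hδ, hq']⟩
  haveI : Module.Free ℤ ((H → Q) ⧸ LinearMap.range δ) := Module.free_of_finite_type_torsion_free'
  obtain ⟨sec, hsec⟩ := Module.projective_lifting_property (LinearMap.range δ).mkQ LinearMap.id
    (Submodule.mkQ_surjective _)
  let pr : (H → Q) →ₗ[ℤ] LinearMap.range δ :=
    LinearMap.codRestrict _ (LinearMap.id - sec ∘ₗ (LinearMap.range δ).mkQ) fun x => by
      rw [← Submodule.Quotient.mk_eq_zero, ← Submodule.mkQ_apply, LinearMap.sub_apply, map_sub,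
        LinearMap.comp_apply, ← LinearMap.comp_apply (LinearMap.range δ).mkQ sec, hsec]
      simp
  have hker : LinearMap.ker δ.rangeRestrict ≤ LinearMap.ker m := by
    intro q hq
    rw [LinearMap.mem_ker] at hq
    have hq0 : δ q = 0 := congrArg Subtype.val hq
    have hfix : ∀ c : H, σ (c : G) q = q := fun c => by
      rw [← sub_eq_zero, ← hδ, hq0]; rfl
    have h1 := LinearMap.congr_fun hm q
    simp only [LinearMap.sum_apply, dual_apply, ← Subgroup.coe_inv, hfix, LinearMap.zero_apply,
      Finset.sum_const, Finset.card_univ, nsmul_eq_mul] at h1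
    exact (mul_eq_zero.1 h1).resolve_left (by exact_mod_cast Fintype.card_ne_zero)
  obtain ⟨φ, hφ⟩ : ∃ φ : LinearMap.range δ →ₗ[ℤ] ℤ, φ ∘ₗ δ.rangeRestrict = m := by
    refine ⟨((LinearMap.ker δ.rangeRestrict).liftQ m hker).comp
      (δ.rangeRestrict.quotKerEquivOfSurjective (δ.surjective_rangeRestrict)).symm.toLinearMap, ?_⟩
    ext q
    show (LinearMap.ker δ.rangeRestrict).liftQ m hker
      ((δ.rangeRestrict.quotKerEquivOfSurjective (δ.surjective_rangeRestrict)).symm (δ.rangeRestrict q)) = m q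
    rw [show (δ.rangeRestrict.quotKerEquivOfSurjective (δ.surjective_rangeRestrict)).symm (δ.rangeRestrict q) =
      Submodule.Quotient.mk q from (LinearEquiv.symm_apply_eq _).2 rfl]
    rfl
  let ψ : (H → Q) →ₗ[ℤ] ℤ := φ.comp pr
  have hψ : ∀ q, ψ (δ q) = m q := fun q => by
    rw [← hφ]
    refine congrArg φ (Subtype.ext ?_)
    show δ q - sec ((LinearMap.range δ).mkQ (δ q)) = δ q
    rw [(Submodule.Quotient.mk_eq_zero _).2 ⟨q, rfl⟩ |> fun h => (Submodule.mkQ_apply (LinearMap.range δ) (δ q)).trans h,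
      map_zero, sub_zero]
  let y : H → (Q →ₗ[ℤ] ℤ) := fun c => ψ.comp (LinearMap.single ℤ (fun _ : H => Q) c)
  have hm' : m = ∑ c : H, (dual σ ((c⁻¹ : H) : G) (y c) - y c) := by
    ext q
    rw [← hψ, ← Finset.univ_sum_single (δ q), map_sum, LinearMap.sum_apply]
    refine Finset.sum_congr rfl fun c _ => ?_
    rw [hδ, LinearMap.sub_apply, dual_apply, Subgroup.coe_inv, inv_inv, ← map_sub]
    rfl
  rw [hm']
  exact Submodule.sum_mem _ fun c _ => Submodule.subset_span ⟨c⁻¹, y c, rfl⟩

/-- Permutation lattices are flasque. -/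
theorem isFlasque_of_isPermutation {P : Type*} [AddCommGroup P] [Module.Finite ℤ P]
    {σ : Representation ℤ G P} (h : IsPermutation σ) : IsFlasque σ := by
  obtain ⟨X, b, hb⟩ := h
  haveI : Module.Free ℤ P := Module.Free.of_basis b
  have h2 : IsFlasque (dual (dual σ)) :=
    isFlasque_dual (isCoflasque_of_isPermutation (isPermutation_dual ⟨X, b, hb⟩))
  intro H m hm
  haveI := Fintype.ofFinite H
  let e := Module.evalEquiv ℤ P
  have he : ∀ (g : G) p, dual (dual σ) g (e p) = e (σ g p) := fun g p => by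
    ext φ
    simp [e, dual_apply]
  rw [finsum_eq_sum_of_fintype] at hm
  have := h2 H (e m) (by rw [finsum_eq_sum_of_fintype]; simp only [he, ← map_sum, hm, map_zero])
  have hle : Submodule.span ℤ {x | ∃ (c : H) (y : Module.Dual ℤ (Module.Dual ℤ P)), x = dual (dual σ) (c : G) y - y} ≤
      (Submodule.span ℤ {x : P | ∃ (c : H) (y : P), x = σ (c : G) y - y}).map e.toLinearMap := by
    refine Submodule.span_le.2 ?_
    rintro _ ⟨c, y, rfl⟩
    obtain ⟨y, rfl⟩ := e.surjective y
    exact ⟨_, Submodule.subset_span ⟨c, y, rfl⟩, by simp [he]⟩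
  obtain ⟨x, hx, hxm⟩ := hle this
  rwa [← e.injective hxm]

end Groth.Misc15.GLatLib
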