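import Groth.Agent.Misc15.GLat.Basic

/-!
Coflasque and flasque resolutions of modules over a finite group.
-/

set_option autoImplicit false
set_option linter.style.haveILetI false

namespace Groth.Misc15.GLatLib

open GLat

variable {G : Type} [Group G] [Finite G]

theorem exists_coflasque_cover (A : Type) [AddCommGroup A] [Module.Finite ℤ A] (ρ : Representation ℤ G A) :
    ∃ (Q : Type) (_ : AddCommGroup Q) (P : Type) (_ : AddCommGroup P)
      (_ : Module.Finite ℤ Q) (_ : Module.Free ℤ Q) (_ : Module.Finite ℤ P) (_ : Module.Free ℤ P)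
      (σ : Representation ℤ G Q) (τ : Representation ℤ G P) (i : Q →ₗ[ℤ] P) (π : P →ₗ[ℤ] A),
      IsEquivariant σ τ i ∧ IsEquivariant τ ρ π ∧ Function.Injective i ∧ Function.Surjective π ∧
      LinearMap.range i = LinearMap.ker π ∧ IsPermutation τ ∧ IsCoflasque σ := by
  classical
  haveI : IsNoetherian ℤ A := isNoetherian_of_isNoetherianRing_of_finite ℤ A
  let fixd : Subgroup G → Submodule ℤ A := fun H => ⨅ h : H, LinearMap.ker (ρ (h : G) - LinearMap.id)
  have hfix : ∀ H x, x ∈ fixd H ↔ ∀ h : H, ρ (h : G) x = x := fun H x => by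
    simp [fixd, sub_eq_zero]
  have hgens : ∀ H, ∃ s : Finset A, Submodule.span ℤ (s : Set A) = fixd H :=
    fun H => IsNoetherian.noetherian (fixd H)
  choose s hs using hgens
  let X := Σ H : Subgroup G, ↥(s H) × (G ⧸ H)
  haveI : Finite X := inferInstance
  let act : G → X → X := fun g x => ⟨x.1, x.2.1, g • x.2.2⟩
  let τ : Representation ℤ G (X →₀ ℤ) :=
    { toFun := fun g => Finsupp.lmapDomain ℤ ℤ (act g)
      map_one' := by
        have : act 1 = id := funext fun x => by simp [act]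
        rw [this, Finsupp.lmapDomain_id]; rfl
      map_mul' := fun g g' => by
        have : act (g * g') = act g ∘ act g' := funext fun x => by simp [act, mul_smul]
        rw [this, Finsupp.lmapDomain_comp]; rfl }
  have hinv : ∀ (x : X) (a b : G), QuotientGroup.leftRel x.1 a b → ρ a x.2.1.1 = ρ b x.2.1.1 := by
    intro x a b hab
    rw [QuotientGroup.leftRel_apply] at hab
    have hmem : (x.2.1.1 : A) ∈ fixd x.1 := hs x.1 ▸ Submodule.subset_span x.2.1.2
    conv_rhs => rw [show b = a * (a⁻¹ * b) by group, rho_mul_apply, (hfix _ _).1 hmem ⟨_, hab⟩]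
  let val : X → A := fun x => Quotient.liftOn' x.2.2 (fun a => ρ a x.2.1.1) (hinv x)
  let π : (X →₀ ℤ) →ₗ[ℤ] A := Finsupp.linearCombination ℤ val
  have hval : ∀ g x, val (act g x) = ρ g (val x) := by
    rintro g ⟨H, a, q⟩
    induction q using QuotientGroup.induction_on with
    | _ a' => exact rho_mul_apply ρ g a' a.1
  have hτπ : IsEquivariant τ ρ π := by
    intro g p
    induction p using Finsupp.induction_linear with
    | zero => simp
    | add p q hp hq => simp [hp, hq]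
    | single x c =>
      show π (Finsupp.mapDomain (act g) (Finsupp.single x c)) = _
      simp [π, Finsupp.mapDomain_single, hval]
  have hperm : IsPermutation τ := ⟨X, Finsupp.basisSingleOne, fun g x => ⟨act g x, by
    show Finsupp.mapDomain (act g) (Finsupp.basisSingleOne x) = _
    simp [Finsupp.mapDomain_single]⟩⟩
  have hsurjH : ∀ (H : Subgroup G) (x : A), (∀ h : H, ρ (h : G) x = x) →
      ∃ p : X →₀ ℤ, π p = x ∧ ∀ h : H, τ (h : G) p = p := by
    intro H x hx
    have hx' : x ∈ Submodule.span ℤ (s H : Set A) := by rw [hs]; exact (hfix H x).2 hx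
    induction hx' using Submodule.span_induction with
    | mem y hy =>
      refine ⟨Finsupp.single ⟨H, ⟨y, hy⟩, QuotientGroup.mk 1⟩ 1, ?_, fun h => ?_⟩
      · simp [π]
        exact rho_one_apply ρ y
      · show Finsupp.mapDomain (act (h : G)) _ = _
        rw [Finsupp.mapDomain_single]
        refine congrArg (fun z : X => Finsupp.single z (1 : ℤ)) ?_
        refine Sigma.ext rfl (heq_of_eq (Prod.ext rfl ?_))
        show QuotientGroup.mk ((h : G) * 1) = QuotientGroup.mk 1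
        rw [QuotientGroup.eq]
        simp
    | zero => exact ⟨0, map_zero π, fun h => map_zero _⟩
    | add y z hy hz ihy ihz =>
      obtain ⟨p, hp, hp'⟩ := ihy ((hfix H y).1 (hs H ▸ hy))
      obtain ⟨q, hq, hq'⟩ := ihz ((hfix H z).1 (hs H ▸ hz))
      exact ⟨p + q, by rw [map_add, hp, hq], fun h => by rw [map_add, hp' h, hq' h]⟩
    | smul c y hy ihy =>
      obtain ⟨p, hp, hp'⟩ := ihy ((hfix H y).1 (hs H ▸ hy))
      exact ⟨c • p, by rw [map_smul, hp], fun h => by rw [map_smul, hp' h]⟩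
  let σ : Representation ℤ G (LinearMap.ker π) :=
    { toFun := fun g => ((τ g).comp (LinearMap.ker π).subtype).codRestrict (LinearMap.ker π) fun q => by
        rw [LinearMap.mem_ker]
        show π (τ g q) = 0
        rw [hτπ, LinearMap.mem_ker.1 q.2, map_zero]
      map_one' := LinearMap.ext fun q => Subtype.ext (rho_one_apply τ q.1)
      map_mul' := fun g g' => LinearMap.ext fun q => Subtype.ext (rho_mul_apply τ g g' q.1) }
  refine ⟨LinearMap.ker π, inferInstance, X →₀ ℤ, inferInstance, inferInstance, inferInstance,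
    inferInstance, inferInstance, σ, τ, (LinearMap.ker π).subtype, π, fun g q => rfl, hτπ,
    Subtype.val_injective, fun x => ?_, Submodule.range_subtype _, hperm,
    isCoflasque_ker (isCoflasque_of_isPermutation hperm) (LinearMap.ker π).subtype π (fun g q => rfl) hτπ
      Subtype.val_injective (Submodule.range_subtype _) hsurjH⟩
  obtain ⟨p, hp, -⟩ := hsurjH ⊥ x fun h => by
    rw [show (h : G) = 1 from Subgroup.mem_bot.1 h.2, rho_one_apply]
  exact ⟨p, hp⟩

theorem exists_flasque_resolution (A : Type) [AddCommGroup A] [Module.Finite ℤ A] [Module.Free ℤ A]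
    (ρ : Representation ℤ G A) :
    ∃ (P : Type) (_ : AddCommGroup P) (F : Type) (_ : AddCommGroup F)
      (_ : Module.Finite ℤ P) (_ : Module.Free ℤ P) (_ : Module.Finite ℤ F) (_ : Module.Free ℤ F)
      (σ : Representation ℤ G P) (τ : Representation ℤ G F) (i : A →ₗ[ℤ] P) (π : P →ₗ[ℤ] F),
      IsEquivariant ρ σ i ∧ IsEquivariant σ τ π ∧ Function.Injective i ∧ Function.Surjective π ∧
      LinearMap.range i = LinearMap.ker π ∧ IsPermutation σ ∧ IsFlasque τ := by
  obtain ⟨Q, _, P, _, _, _, _, _, σ, τ, j, q, hj, hq, hjinj, hqs, hex, hperm, hco⟩ :=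
    exists_coflasque_cover (A →ₗ[ℤ] ℤ) (dual ρ)
  obtain ⟨sec, hsec⟩ := Module.projective_lifting_property q LinearMap.id hqs
  let e := Module.evalEquiv ℤ A
  let i : A →ₗ[ℤ] P →ₗ[ℤ] ℤ := q.dualMap.comp e.toLinearMap
  let π : (P →ₗ[ℤ] ℤ) →ₗ[ℤ] Q →ₗ[ℤ] ℤ := j.dualMap
  have hi : ∀ a p, i a p = q p a := fun a p => rfl
  have hret : ∀ p, p - sec (q p) ∈ LinearMap.range j := fun p => by
    rw [hex, LinearMap.mem_ker, map_sub, ← LinearMap.comp_apply q sec, hsec, LinearMap.id_apply, sub_self]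
  choose r hr using hret
  have hqj : ∀ x, q (j x) = 0 := fun x => LinearMap.mem_ker.1 (hex ▸ LinearMap.mem_range_self j x)
  let rl : P →ₗ[ℤ] Q :=
    { toFun := r
      map_add' := fun a b => hjinj (by simp only [map_add, hr]; abel)
      map_smul' := fun c a => hjinj (by simp only [map_smul, hr, smul_sub, RingHom.id_apply]) }
  refine ⟨P →ₗ[ℤ] ℤ, inferInstance, Q →ₗ[ℤ] ℤ, inferInstance, inferInstance, inferInstance, inferInstance,
    inferInstance, dual τ, dual σ, i, π, fun g a => LinearMap.ext fun p => ?_, fun g φ => LinearMap.ext fun x => ?_,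
    ?_, fun ψ => ⟨ψ.comp rl, LinearMap.ext fun x => ?_⟩, ?_, isPermutation_dual hperm, isFlasque_dual hco⟩
  · rw [dual_apply, hi, hi, hq, dual_apply, inv_inv]
  · show φ (τ g⁻¹ (j x)) = φ (j (σ g⁻¹ x))
    rw [hj]
  · exact (LinearMap.dualMap_injective_of_surjective hqs).comp e.injective
  · show ψ (rl (j x)) = ψ x
    congr 1
    refine hjinj ?_
    show j (r (j x)) = j x
    rw [hr, hqj, map_zero, sub_zero]
  · refine le_antisymm ?_ fun φ hφ => ?_
    · rintro _ ⟨a, rfl⟩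
      rw [LinearMap.mem_ker]
      ext x
      show i a (j x) = 0
      rw [hi, hqj]
      rfl
    · refine ⟨e.symm (φ.comp sec), LinearMap.ext fun p => ?_⟩
      rw [hi, show q p (e.symm (φ.comp sec)) = (φ.comp sec) (q p) from
        Module.apply_evalEquiv_symm_apply ℤ A (q p) _]
      have h1 := LinearMap.congr_fun (LinearMap.mem_ker.1 hφ) (r p)
      simp only [π, LinearMap.dualMap_apply, hr, map_sub, LinearMap.zero_apply] at h1
      show φ (sec (q p)) = φ p
      linear_combination -h1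

theorem exists_coflasque_resolution (A : Type) [AddCommGroup A] [Module.Finite ℤ A] [Module.Free ℤ A]
    (ρ : Representation ℤ G A) :
    ∃ (Q : Type) (_ : AddCommGroup Q) (P : Type) (_ : AddCommGroup P)
      (_ : Module.Finite ℤ Q) (_ : Module.Free ℤ Q) (_ : Module.Finite ℤ P) (_ : Module.Free ℤ P)
      (σ : Representation ℤ G Q) (τ : Representation ℤ G P) (i : A →ₗ[ℤ] Q) (π : Q →ₗ[ℤ] P),
      IsEquivariant ρ σ i ∧ IsEquivariant σ τ π ∧ Function.Injective i ∧ Function.Surjective π ∧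
      LinearMap.range i = LinearMap.ker π ∧ IsCoflasque σ ∧ IsPermutation τ := by
  obtain ⟨P₀, _, F, _, _, _, _, _, σ₀, τF, i₀, π₀, hi₀, hπ₀, hi₀i, hπ₀s, hex₀, hp₀, -⟩ :=
    exists_flasque_resolution A ρ
  obtain ⟨Q₁, _, P₁, _, _, _, _, _, σ₁, τ₁, i₁, π₁, hi₁, hπ₁, hi₁i, hπ₁s, hex₁, hp₁, hco₁⟩ :=
    exists_coflasque_cover F τF
  let W := LinearMap.ker (π₀.comp (LinearMap.fst ℤ P₀ P₁) - π₁.comp (LinearMap.snd ℤ P₀ P₁))
  have hW : ∀ x : P₀ × P₁, x ∈ W ↔ π₀ x.1 = π₁ x.2 := fun x => by simp [W, sub_eq_zero]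
  have h0 : ∀ a, π₀ (i₀ a) = 0 := fun a => LinearMap.mem_ker.1 (hex₀ ▸ LinearMap.mem_range_self i₀ a)
  have h1 : ∀ a, π₁ (i₁ a) = 0 := fun a => LinearMap.mem_ker.1 (hex₁ ▸ LinearMap.mem_range_self i₁ a)
  let σ : Representation ℤ G W :=
    { toFun := fun g => (((σ₀ g).prodMap (τ₁ g)).comp W.subtype).codRestrict W fun q => by
        rw [hW]
        show π₀ (σ₀ g q.1.1) = π₁ (τ₁ g q.1.2)
        rw [hπ₀, hπ₁, (hW q.1).1 q.2]
      map_one' := LinearMap.ext fun q => Subtype.ext (Prod.ext (rho_one_apply σ₀ _) (rho_one_apply τ₁ _))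
      map_mul' := fun g g' => LinearMap.ext fun q =>
        Subtype.ext (Prod.ext (rho_mul_apply σ₀ g g' _) (rho_mul_apply τ₁ g g' _)) }
  let i : A →ₗ[ℤ] W := (i₀.prod 0).codRestrict W fun a => by
    rw [hW]; simp [h0]
  let π : W →ₗ[ℤ] P₁ := (LinearMap.snd ℤ P₀ P₁).comp W.subtype
  let j : Q₁ →ₗ[ℤ] W := ((0 : Q₁ →ₗ[ℤ] P₀).prod i₁).codRestrict W fun a => by
    rw [hW]; simp [h1]
  let p0 : W →ₗ[ℤ] P₀ := (LinearMap.fst ℤ P₀ P₁).comp W.subtype
  refine ⟨W, inferInstance, P₁, inferInstance, inferInstance, inferInstance, inferInstance, inferInstance,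
    σ, τ₁, i, π, fun g a => Subtype.ext (Prod.ext (hi₀ g a) (map_zero (τ₁ g)).symm), fun g q => rfl,
    fun a b h => hi₀i (congrArg (fun z : W => z.1.1) h), fun y => ?_, ?_, ?_, hp₁⟩
  · obtain ⟨x, hx⟩ := hπ₀s (π₁ y)
    exact ⟨⟨(x, y), (hW _).2 hx⟩, rfl⟩
  · refine le_antisymm ?_ fun q hq => ?_
    · rintro _ ⟨a, rfl⟩; rfl
    · have hq2 : q.1.2 = 0 := LinearMap.mem_ker.1 hq
      obtain ⟨a, ha⟩ : q.1.1 ∈ LinearMap.range i₀ := by
        rw [hex₀, LinearMap.mem_ker, (hW q.1).1 q.2, hq2, map_zero]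
      exact ⟨a, Subtype.ext (Prod.ext ha hq2.symm)⟩
  · refine isCoflasque_extension hco₁ (isCoflasque_of_isPermutation hp₀) j p0
      (fun g a => Subtype.ext (Prod.ext (map_zero (σ₀ g)).symm (hi₁ g a))) (fun g q => rfl)
      (fun a b h => hi₁i (congrArg (fun z : W => z.1.2) h)) (fun x => ?_) ?_
    · obtain ⟨y, hy⟩ := hπ₁s (π₀ x)
      exact ⟨⟨(x, y), (hW _).2 hy.symm⟩, rfl⟩
    · refine le_antisymm ?_ fun q hq => ?_
      · rintro _ ⟨a, rfl⟩; rfl
      · have hq1 : q.1.1 = 0 := LinearMap.mem_ker.1 hq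
        obtain ⟨a, ha⟩ : q.1.2 ∈ LinearMap.range i₁ := by
          rw [hex₁, LinearMap.mem_ker, ← (hW q.1).1 q.2, hq1, map_zero]
        exact ⟨a, Subtype.ext (Prod.ext hq1.symm ha)⟩

theorem exists_flasque_cover (A : Type) [AddCommGroup A] [Module.Finite ℤ A] (ρ : Representation ℤ G A) :
    ∃ (P : Type) (_ : AddCommGroup P) (F : Type) (_ : AddCommGroup F)
      (_ : Module.Finite ℤ P) (_ : Module.Free ℤ P) (_ : Module.Finite ℤ F) (_ : Module.Free ℤ F)
      (σ : Representation ℤ G P) (τ : Representation ℤ G F) (i : P →ₗ[ℤ] F) (π : F →ₗ[ℤ] A),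
      IsEquivariant σ τ i ∧ IsEquivariant τ ρ π ∧ Function.Injective i ∧ Function.Surjective π ∧
      LinearMap.range i = LinearMap.ker π ∧ IsPermutation σ ∧ IsFlasque τ := by
  obtain ⟨Q, _, P₀, _, _, _, _, _, σQ, τ₀, i₀, π₀, hi₀, hπ₀, hi₀i, hπ₀s, hex₀, hp₀, -⟩ :=
    exists_coflasque_cover A ρ
  obtain ⟨P₁, _, F₁, _, _, _, _, _, σ₁, τ₁, i₁, π₁, hi₁, hπ₁, hi₁i, hπ₁s, hex₁, hp₁, hfl₁⟩ :=
    exists_flasque_resolution Q σQ
  let K := LinearMap.range (i₀.prod (-i₁))
  let F := (P₀ × P₁) ⧸ K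
  have h0 : ∀ a, π₀ (i₀ a) = 0 := fun a => LinearMap.mem_ker.1 (hex₀ ▸ LinearMap.mem_range_self i₀ a)
  have h1 : ∀ a, π₁ (i₁ a) = 0 := fun a => LinearMap.mem_ker.1 (hex₁ ▸ LinearMap.mem_range_self i₁ a)
  let τ : Representation ℤ G F :=
    { toFun := fun g => K.mapQ K ((τ₀ g).prodMap (σ₁ g)) (by
        rintro _ ⟨a, rfl⟩
        exact ⟨σQ g a, Prod.ext (hi₀ g a) ((congrArg Neg.neg (hi₁ g a)).trans (map_neg (σ₁ g) _).symm)⟩)
      map_one' := Submodule.linearMap_qext _ (LinearMap.ext fun x => congrArg (Submodule.Quotient.mk (p := K))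
        (Prod.ext (rho_one_apply τ₀ _) (rho_one_apply σ₁ _)))
      map_mul' := fun g g' => Submodule.linearMap_qext _ (LinearMap.ext fun x => congrArg (Submodule.Quotient.mk (p := K))
        (Prod.ext (rho_mul_apply τ₀ g g' _) (rho_mul_apply σ₁ g g' _))) }
  let i : P₁ →ₗ[ℤ] F := K.mkQ.comp (LinearMap.inr ℤ P₀ P₁)
  let j : P₀ →ₗ[ℤ] F := K.mkQ.comp (LinearMap.inl ℤ P₀ P₁)
  let π : F →ₗ[ℤ] A := K.liftQ (π₀.comp (LinearMap.fst ℤ P₀ P₁)) (by
    rintro _ ⟨a, rfl⟩; exact h0 a)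
  let p1 : F →ₗ[ℤ] F₁ := K.liftQ (π₁.comp (LinearMap.snd ℤ P₀ P₁)) (by
    rintro _ ⟨a, rfl⟩
    show π₁ (-(i₁ a)) = 0
    rw [map_neg, h1, neg_zero])
  have hinj : Function.Injective i := (injective_iff_map_eq_zero i).2 fun y hy => by
    obtain ⟨a, ha⟩ := (Submodule.Quotient.mk_eq_zero K).1 hy
    rw [hi₀i (a₁ := a) (a₂ := 0) (by rw [map_zero]; exact congrArg Prod.fst ha), map_zero] at ha
    exact (congrArg Prod.snd ha).symm
  have hjinj : Function.Injective j := (injective_iff_map_eq_zero j).2 fun y hy => by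
    obtain ⟨a, ha⟩ := (Submodule.Quotient.mk_eq_zero K).1 hy
    rw [hi₁i (a₁ := a) (a₂ := 0) (by rw [map_zero]; simpa using congrArg Prod.snd ha), map_zero] at ha
    exact (congrArg Prod.fst ha).symm
  have hfl : IsFlasque τ := by
    refine isFlasque_extension (isFlasque_of_isPermutation hp₀) hfl₁ j p1 (fun g a => ?_) (fun g x => ?_) hjinj
      (fun y => ?_) ?_
    · show Submodule.Quotient.mk (τ₀ g a, (0 : P₁)) = Submodule.Quotient.mk (τ₀ g a, σ₁ g 0)
      rw [map_zero]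
    · obtain ⟨⟨x, y⟩, rfl⟩ := Submodule.Quotient.mk_surjective K x
      exact hπ₁ g y
    · obtain ⟨x, rfl⟩ := hπ₁s y
      exact ⟨Submodule.Quotient.mk (0, x), rfl⟩
    · refine le_antisymm ?_ fun z hz => ?_
      · rintro _ ⟨a, rfl⟩
        show π₁ 0 = 0
        exact map_zero _
      · obtain ⟨⟨x, y⟩, rfl⟩ := Submodule.Quotient.mk_surjective K z
        obtain ⟨a, ha⟩ : y ∈ LinearMap.range i₁ := hex₁ ▸ LinearMap.mem_ker.2 (LinearMap.mem_ker.1 hz)
        refine ⟨x + i₀ a, (Submodule.Quotient.eq K).2 ⟨a, Prod.ext ?_ ?_⟩⟩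
        · show i₀ a = x + i₀ a - x
          abel
        · show -(i₁ a) = 0 - y
          rw [ha, zero_sub]
  haveI : Module.IsTorsionFree ℤ F := by
    refine Module.IsTorsionFree.of_smul_eq_zero fun n z hnz => ?_
    by_cases hn : n = 0
    · exact Or.inl hn
    refine Or.inr ?_
    obtain ⟨⟨x, y⟩, rfl⟩ := Submodule.Quotient.mk_surjective K z
    have hy : π₁ y = 0 := smul_right_injective F₁ hn (by
      show n • π₁ y = n • 0
      rw [smul_zero, ← map_smul]
      exact (congrArg p1 hnz).trans (map_zero p1))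
    obtain ⟨a, ha⟩ : y ∈ LinearMap.range i₁ := hex₁ ▸ LinearMap.mem_ker.2 hy
    have hz : (Submodule.Quotient.mk (x, y) : F) = j (x + i₀ a) := (Submodule.Quotient.eq K).2
      ⟨-a, Prod.ext (show i₀ (-a) = x - (x + i₀ a) by rw [map_neg]; abel)
        (show -(i₁ (-a)) = y - 0 by rw [map_neg, neg_neg, ha, sub_zero])⟩
    rw [hz, ← map_smul] at hnz
    have hb := hjinj (hnz.trans (map_zero j).symm)
    rw [hz, smul_right_injective P₀ hn (show n • (x + i₀ a) = n • 0 by rw [hb, smul_zero]), map_zero]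
  haveI : Module.Free ℤ F := Module.free_of_finite_type_torsion_free'
  refine ⟨P₁, inferInstance, F, inferInstance, inferInstance, inferInstance, inferInstance, inferInstance,
    σ₁, τ, i, π, fun g a => ?_, fun g x => ?_, hinj, fun x => ?_, ?_, hp₁, hfl⟩
  · show Submodule.Quotient.mk ((0 : P₀), σ₁ g a) = Submodule.Quotient.mk (τ₀ g 0, σ₁ g a)
    rw [map_zero]
  · obtain ⟨⟨x, y⟩, rfl⟩ := Submodule.Quotient.mk_surjective K x
    exact hπ₀ g x
  · obtain ⟨y, rfl⟩ := hπ₀s x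
    exact ⟨Submodule.Quotient.mk (y, 0), rfl⟩
  · refine le_antisymm ?_ fun z hz => ?_
    · rintro _ ⟨a, rfl⟩
      show π₀ 0 = 0
      exact map_zero _
    · obtain ⟨⟨x, y⟩, rfl⟩ := Submodule.Quotient.mk_surjective K z
      obtain ⟨a, ha⟩ : x ∈ LinearMap.range i₀ := hex₀ ▸ LinearMap.mem_ker.2 (LinearMap.mem_ker.1 hz)
      refine ⟨y + i₁ a, (Submodule.Quotient.eq K).2 ⟨-a, Prod.ext ?_ ?_⟩⟩
      · show i₀ (-a) = 0 - x
        rw [map_neg, ha, zero_sub]
      · show -(i₁ (-a)) = y + i₁ a - y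
        rw [map_neg, neg_neg]; abel

end Groth.Misc15.GLatLib
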